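import Cfsg.Prelude.Def_DStar
import Cfsg.Agent.WeakClosureJ.MaxAbelian
import Cfsg.Agent.S0015

/-!
Glauberman–Solomon: `D*(S)` centralises every abelian subgroup it normalises, lies in every maximal
normal abelian subgroup and in every abelian subgroup of largest order.
-/

set_option autoImplicit false

open scoped commutatorElement

namespace CfsgLib.DStarBasic

open Cfsg CfsgLib.WeakClosureJ CfsgLib.GlaubermanZJ

variable {S : Type*} [Group S]

/-- A member of the family centralises every abelian subgroup that it normalises. -/
theorem member_le_centralizer [Group.IsNilpotent S] {A B : Subgroup S} (hA : A ∈ dStarFamily S)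
    (hB : IsMulCommutative B) (hAB : A ≤ Subgroup.normalizer (B : Set S)) :
    A ≤ Subgroup.centralizer (B : Set S) := by
  classical
  obtain ⟨hAc, hA⟩ := hA
  obtain ⟨n, hn⟩ := Subgroup.nilpotent_iff_lowerCentralSeries.1 (inferInstance : Group.IsNilpotent S)
  -- downward induction along the lower central series
  have key : ∀ i j : ℕ, i + j = n → ∀ b ∈ B, b ∈ Subgroup.lowerCentralSeries (⊤ : Subgroup S) j →
      ∀ a ∈ A, a * b = b * a := by
    intro i
    induction i with
    | zero =>
      intro j hj b _ hbj a _
      rw [show j = n by omega, hn, Subgroup.mem_bot] at hbj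
      subst hbj; simp
    | succ i ih =>
      intro j hj b hbB hbj
      set H := A ⊔ Subgroup.zpowers b with hH
      refine hA b ?_
      have hcl : H = Subgroup.closure ((A : Set S) ∪ {b}) := by
        rw [hH, Subgroup.closure_union, Subgroup.closure_eq, Subgroup.zpowers_eq_closure]
      have hcomb : ∀ a ∈ A, ⁅a, b⁆ ∈ Subgroup.centralizer (H : Set S) := by
        intro a ha
        have h1 : ⁅a, b⁆ ∈ B :=
          mul_mem ((Subgroup.mem_normalizer_iff.1 (hAB ha) b).1 hbB) (inv_mem hbB)
        have h2 : ⁅a, b⁆ ∈ Subgroup.lowerCentralSeries (⊤ : Subgroup S) (j + 1) := by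
          rw [Subgroup.lowerCentralSeries_succ]
          have h := inv_mem (Subgroup.commutator_mem_commutator hbj (Subgroup.mem_top a))
          rwa [commutatorElement_inv] at h
        have h3 := ih (j + 1) (by omega) _ h1 h2
        rw [hcl, Subgroup.centralizer_closure, Subgroup.mem_centralizer_iff]
        rintro y (hy | hy)
        · exact h3 y hy
        · rw [Set.mem_singleton_iff.1 hy]; exact isMulCommutative_apply hB hbB h1
      have hmem : ∀ a ∈ A, ⁅a, b⁆ ∈ H := fun a ha =>
        mul_mem (mul_mem (mul_mem (Subgroup.mem_sup_left ha)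
          (Subgroup.mem_sup_right (Subgroup.mem_zpowers b)))
          (inv_mem (Subgroup.mem_sup_left ha)))
          (inv_mem (Subgroup.mem_sup_right (Subgroup.mem_zpowers b)))
      rw [← hH, Subgroup.commutator_eq_bot_iff_le_centralizer]
      -- the derived subgroup of `H` is central in `H`
      set M := H ⊓ Subgroup.centralizer (H : Set S) with hM
      have hMn : (M.subgroupOf H).Normal := by
        refine ⟨fun x hx g => ?_⟩
        have hc : (g : S) * x = x * g :=
          Subgroup.mem_centralizer_iff.1 (Subgroup.mem_subgroupOf.1 hx).2 g g.2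
        have : g * x * g⁻¹ = x := by
          apply Subtype.ext
          push_cast
          rw [hc, mul_inv_cancel_right]
        rwa [this]
      have hgen : ∀ x ∈ (A : Set S) ∪ {b}, ∀ y ∈ (A : Set S) ∪ {b}, ⁅x, y⁆ ∈ M := by
        intro x hx y hy
        rcases hx with hx | hx <;> rcases hy with hy | hy
        · rw [commutatorElement_eq_one_iff_mul_comm.2 (isMulCommutative_apply hAc hx hy)]
          exact one_mem _
        · rw [Set.mem_singleton_iff.1 hy]; exact ⟨hmem x hx, hcomb x hx⟩
        · rw [Set.mem_singleton_iff.1 hx, ← commutatorElement_inv]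
          exact inv_mem ⟨hmem y hy, hcomb y hy⟩
        · rw [Set.mem_singleton_iff.1 hx, Set.mem_singleton_iff.1 hy, commutatorElement_self]
          exact one_mem _
      refine le_trans (b := M) ?_ inf_le_right
      rw [Subgroup.commutator_le]
      intro x hx y hy
      let π := QuotientGroup.mk' (M.subgroupOf H)
      have hgen2 : ∀ u : H, (u : S) ∈ (A : Set S) ∪ {b} → ∀ v : H, (v : S) ∈ (A : Set S) ∪ {b} →
          π u * π v = π v * π u := by
        intro u hu v hv
        rw [← commutatorElement_eq_one_iff_mul_comm, ← map_commutatorElement]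
        exact (QuotientGroup.eq_one_iff _).2 (Subgroup.mem_subgroupOf.2 (hgen _ hu _ hv))
      have htop : Subgroup.closure ((H.subtype) ⁻¹' ((A : Set S) ∪ {b})) = ⊤ := by
        have hsub : (A : Set S) ∪ {b} ⊆ (H : Set S) := by
          rw [hcl]; exact Subgroup.subset_closure
        apply Subgroup.map_injective H.subtype_injective
        rw [MonoidHom.map_closure, ← MonoidHom.range_eq_map, Subgroup.range_subtype,
          Set.image_preimage_eq_of_subset (by rw [Subgroup.coe_subtype, Subtype.range_coe]; exact hsub)]
        exact hcl.symm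
      have hall : ∀ u v : H, π u * π v = π v * π u := by
        have step : ∀ u : H, (u : S) ∈ (A : Set S) ∪ {b} → ∀ v : H, π u * π v = π v * π u := by
          intro u hu v
          have hv : v ∈ Subgroup.closure ((H.subtype) ⁻¹' ((A : Set S) ∪ {b})) := by
            rw [htop]; trivial
          induction hv using Subgroup.closure_induction with
          | mem w hw => exact hgen2 u hu w hw
          | one => simp
          | mul w w' _ _ h h' => rw [map_mul]; exact Commute.mul_right h h'
          | inv w _ h => rw [map_inv]; exact Commute.inv_right h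
        intro u v
        have hu : u ∈ Subgroup.closure ((H.subtype) ⁻¹' ((A : Set S) ∪ {b})) := by
          rw [htop]; trivial
        induction hu using Subgroup.closure_induction with
        | mem w hw => exact step w hw v
        | one => simp
        | mul w w' _ _ h h' => rw [map_mul]; exact Commute.mul_left h h'
        | inv w _ h => rw [map_inv]; exact Commute.inv_left h
      have h1 := commutatorElement_eq_one_iff_mul_comm.2 (hall ⟨x, hx⟩ ⟨y, hy⟩)
      rw [← map_commutatorElement] at h1
      exact Subgroup.mem_subgroupOf.1 ((QuotientGroup.eq_one_iff _).1 h1)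
  intro a ha
  rw [Subgroup.mem_centralizer_iff]
  intro b hb
  exact (key n 0 rfl b hb (by simp [Subgroup.lowerCentralSeries_zero]) a ha).symm

theorem center_le_dStar : Subgroup.center S ≤ dStar S := by
  refine le_sSup ⟨⟨⟨fun a b => Subtype.ext (Subgroup.mem_center_iff.1 b.2 a.1)⟩⟩, ?_⟩
  exact fun x _ a ha => (Subgroup.mem_center_iff.1 ha x).symm

variable [Finite S] {p : ℕ} [Fact p.Prime]

/-- `D*(S)` lies in every self-centralising abelian normal subgroup. -/
theorem dStar_le_of_maximal (hS : IsPGroup p S) {M : Subgroup S} [hn : M.Normal]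
    (hMc : IsMulCommutative M)
    (hmax : ∀ B : Subgroup S, B.Normal → IsMulCommutative B → M ≤ B → B = M) : dStar S ≤ M := by
  haveI := hS.isNilpotent
  refine sSup_le fun A hA => ?_
  have h := member_le_centralizer hA hMc (by rw [Subgroup.normalizer_eq_top]; exact le_top)
  haveI := hMc
  exact h.trans (le_of_eq (Cfsg.Agent.S0015.result M hmax))

/-- `D*(S)` centralises every abelian subgroup of largest order. -/
theorem dStar_le_maxAb (hS : IsPGroup p S) {B : Subgroup S}
    (hB : B ∈ maxAbelianSubgroups S) : dStar S ≤ B := by
  haveI := hS.isNilpotent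
  classical
  -- `D*(S)` is abelian and normal
  have hfam : ∀ A ∈ dStarFamily S, ∀ g : S, A.map (MulAut.conj g).toMonoidHom ∈ dStarFamily S := by
    intro A hA g
    refine ⟨isMulCommutative_map _ hA.1, fun x hx a ha => ?_⟩
    obtain ⟨a', ha', rfl⟩ := Subgroup.mem_map.1 ha
    obtain ⟨x, rfl⟩ := (MulAut.conj g).surjective x
    have h : a' * x = x * a' := by
      refine hA.2 x ?_ a' ha'
      apply Subgroup.map_injective (f := (MulAut.conj g).toMonoidHom) (MulAut.conj g).injective
      rwa [Subgroup.map_commutator, Subgroup.map_commutator, Subgroup.map_sup,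
        MonoidHom.map_zpowers, Subgroup.map_bot]
    show MulAut.conj g a' * MulAut.conj g x = MulAut.conj g x * MulAut.conj g a'
    rw [← map_mul, ← map_mul, h]
  haveI hn : (dStar S).Normal := by
    refine ⟨fun x hx g => ?_⟩
    have h1 : (dStar S).map (MulAut.conj g).toMonoidHom ≤ dStar S := by
      rw [dStar, sSup_eq_iSup', Subgroup.map_iSup]
      exact iSup_le fun A => le_iSup_of_le ⟨_, hfam A A.2 g⟩ le_rfl
    exact h1 ⟨x, hx, rfl⟩
  have hDc : IsMulCommutative (dStar S) := by
    obtain ⟨M, ⟨hM1, hM2⟩, hM3⟩ := Set.Finite.exists_maximal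
      (Set.toFinite {M : Subgroup S | M.Normal ∧ IsMulCommutative M})
      ⟨⊥, inferInstance, isMulCommutative_bot'⟩
    haveI := hM1
    have h := dStar_le_of_maximal hS hM2 fun B h1 h2 h3 => le_antisymm (hM3 ⟨h1, h2⟩ h3) h3
    exact ⟨⟨fun a b => Subtype.ext (isMulCommutative_apply hM2 (h a.2) (h b.2))⟩⟩
  -- downward induction on `|B ⊓ D*(S)|`
  have key : ∀ m : ℕ, ∀ B ∈ maxAbelianSubgroups S,
      Nat.card (dStar S) ≤ Nat.card (B ⊓ dStar S : Subgroup S) + m → dStar S ≤ B := by
    intro m
    induction m using Nat.strong_induction_on with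
    | _ m ih =>
      intro B hB hm
      by_cases hnorm : dStar S ≤ Subgroup.normalizer (B : Set S)
      · -- maximal abelian subgroups are self-centralising
        have hcen : ∀ A ∈ dStarFamily S, A ≤ B := by
          intro A hA a ha
          have h1 := member_le_centralizer hA hB.1
            (le_trans (le_sSup hA) hnorm) ha
          have h2 : IsMulCommutative (B ⊔ Subgroup.zpowers a : Subgroup S) := by
            rw [Subgroup.zpowers_eq_closure, ← Subgroup.closure_eq B, ← Subgroup.closure_union]
            refine Subgroup.isMulCommutative_closure ?_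
            rintro x (hx | hx) y (hy | hy)
            · exact isMulCommutative_apply hB.1 hx hy
            · rw [Set.mem_singleton_iff.1 hy]; exact Subgroup.mem_centralizer_iff.1 h1 x hx
            · rw [Set.mem_singleton_iff.1 hx]; exact (Subgroup.mem_centralizer_iff.1 h1 y hy).symm
            · rw [Set.mem_singleton_iff.1 hx, Set.mem_singleton_iff.1 hy]
          have h3 := Subgroup.eq_of_le_of_card_ge le_sup_left (hB.2 _ h2)
          rw [h3]
          exact Subgroup.mem_sup_right (Subgroup.mem_zpowers a)
        exact sSup_le hcen
      · obtain ⟨B', hB', hlt, hN⟩ := exists_replacement (R := (⊤ : Subgroup S)) (V := dStar S)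
          (A := B) (hS.to_subgroup ⊤) le_top (by rw [Subgroup.normalizer_eq_top]) hDc
          ⟨le_top, hB.1, fun C _ hC => hB.2 C hC⟩ hnorm
        have hB'2 : B' ∈ maxAbelianSubgroups S := ⟨hB'.2.1, fun C hC => hB'.2.2 C le_top hC⟩
        have hc : Nat.card (B ⊓ dStar S : Subgroup S) < Nat.card (B' ⊓ dStar S : Subgroup S) := by
          by_contra hle
          exact hlt.ne (Subgroup.eq_of_le_of_card_ge hlt.le (not_lt.1 hle))
        have h1 : dStar S ≤ B' := by
          rcases Nat.eq_zero_or_pos m with rfl | hm0
          · exfalso
            have := Subgroup.card_le_of_le (inf_le_right : B' ⊓ dStar S ≤ dStar S)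
            omega
          · exact ih (m - 1) (by omega) B' hB'2 (by omega)
        exact absurd (h1.trans hN) hnorm
  exact key (Nat.card (dStar S)) B hB (by omega)

end CfsgLib.DStarBasic
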